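import Mathlib

/-!
# Feit–Higman: the algebraic part

In an algebra with two quadratic generators `S`, `T` satisfying a braid relation of length `N`
and carrying a linear form `τ` which is natural-number valued on idempotents and vanishes on short
alternating products, the numbers `2 √(qr) cos (π j / m)` are forced to be rational.
-/

set_option autoImplicit false

namespace CfsgLib.Lie.FeitHigman

open Polynomial

/-- Chebyshev type polynomials `V (k+2) = X V (k+1) - p V k` -/
noncomputable def chebV (p : ℝ) : ℕ → ℝ[X]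
  | 0 => 1
  | 1 => X
  | k + 2 => X * chebV p (k + 1) - C p * chebV p k

/-- divided difference of `chebV` at `l` -/
noncomputable def divV (p l : ℝ) : ℕ → ℝ[X]
  | 0 => 0
  | 1 => 1
  | k + 2 => C l * divV p l (k + 1) + chebV p (k + 1) - C p * divV p l k

theorem X_sub_mul_divV (p l : ℝ) : ∀ k : ℕ,
    (X - C l) * divV p l k = chebV p k - C ((chebV p k).eval l)
  | 0 => by simp [divV, chebV]
  | 1 => by simp [divV, chebV]
  | k + 2 => by
    have h1 := X_sub_mul_divV p l (k + 1)
    have h0 := X_sub_mul_divV p l k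
    simp only [divV, chebV, eval_sub, eval_mul, eval_X, eval_C, map_sub, map_mul]
    linear_combination C l * h1 - C p * h0

theorem eval_divV (p l : ℝ) (k : ℕ) : (divV p l k).eval l = (derivative (chebV p k)).eval l := by
  have h := congrArg (fun f => (derivative f).eval l) (X_sub_mul_divV p l k)
  simpa using h

theorem deriv_chebV (p x : ℝ) : ∀ k : ℕ,
    (x ^ 2 - 4 * p) * (derivative (chebV p (k + 1))).eval x
      = (k + 1) * x * (chebV p (k + 1)).eval x - 2 * (k + 2) * p * (chebV p k).eval x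
  | 0 => by simp [chebV]; ring
  | 1 => by simp [chebV]; ring
  | k + 2 => by
    have h1 := deriv_chebV p x (k + 1)
    have h0 := deriv_chebV p x k
    simp only [chebV, derivative_sub, derivative_mul, derivative_X, derivative_C, eval_sub,
      eval_add, eval_mul, eval_X, eval_C, eval_one, one_mul, zero_mul, zero_add] at h0 h1 ⊢
    push_cast at h0 h1 ⊢
    linear_combination x * h1 - p * h0

theorem not_two_zero (p x : ℝ) (hp : p ≠ 0) : ∀ k : ℕ,
    ¬ ((chebV p k).eval x = 0 ∧ (chebV p (k + 1)).eval x = 0)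
  | 0 => by simp [chebV]
  | k + 1 => by
    rintro ⟨h1, h2⟩
    refine not_two_zero p x hp k ⟨?_, h1⟩
    simp only [chebV, eval_sub, eval_mul, eval_X, eval_C] at h2
    rw [h1, mul_zero, zero_sub, neg_eq_zero] at h2
    exact (mul_eq_zero.1 h2).resolve_left hp

theorem chebV_cos (ρ φ : ℝ) : ∀ k : ℕ,
    (chebV (ρ ^ 2) k).eval (2 * ρ * Real.cos φ) * Real.sin φ = ρ ^ k * Real.sin ((k + 1 : ℕ) * φ)
  | 0 => by simp [chebV]
  | 1 => by simp [chebV, Real.sin_two_mul]; ring
  | k + 2 => by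
    have h1 := chebV_cos ρ φ (k + 1)
    have h0 := chebV_cos ρ φ k
    have e1 : ((k + 2 + 1 : ℕ) : ℝ) * φ = ((k + 1 + 1 : ℕ) : ℝ) * φ + φ := by push_cast; ring
    have e0 : ((k + 1 : ℕ) : ℝ) * φ = ((k + 1 + 1 : ℕ) : ℝ) * φ - φ := by push_cast; ring
    rw [e0, Real.sin_sub] at h0
    rw [e1, Real.sin_add]
    simp only [chebV, eval_sub, eval_mul, eval_X, eval_C]
    linear_combination (2 * ρ * Real.cos φ) * h1 - ρ ^ 2 * h0

/-- the coefficients of the trace form on `chebV` -/
noncomputable def coeffL (r : ℝ) : ℕ → ℝ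
  | 0 => 1
  | 1 => -(r - 1)
  | k + 2 => -(r - 1) * coeffL r (k + 1) + r * coeffL r k

theorem coeffL_succ (r : ℝ) : ∀ k : ℕ, coeffL r (k + 1) + r * coeffL r k = 1
  | 0 => by simp [coeffL]
  | k + 1 => by
    have := coeffL_succ r k
    simp only [coeffL]
    linear_combination this

/-- the polynomials giving the basis `(q+1) e (TS)^k T e` of the corner algebra -/
noncomputable def polP (q r : ℝ) : ℕ → ℝ[X]
  | 0 => X + C (r - 1)
  | 1 => X * (X + C (r - 1)) - C (r * (q + 1))
  | k + 2 => X * polP q r (k + 1) - C (q * r) * polP q r k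

theorem polP_succ (q r : ℝ) : ∀ k : ℕ, polP q r (k + 1)
    = chebV (q * r) (k + 2) + C (r - 1) * chebV (q * r) (k + 1) - C r * chebV (q * r) k
  | 0 => by simp [polP, chebV]; ring
  | 1 => by simp [polP, chebV]; ring
  | k + 2 => by
    have h1 := polP_succ q r (k + 1)
    have h0 := polP_succ q r k
    rw [polP, h1, h0, chebV.eq_3 (q * r) (k + 2), chebV.eq_3 (q * r) (k + 1)]
    simp only [chebV]
    ring

variable {A : Type*} [Ring A] [Algebra ℝ A]

/-- the data: two quadratic generators and the trace form -/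
structure HeckeData (A : Type*) [Ring A] [Algebra ℝ A] where
  S : A
  T : A
  q : ℕ
  r : ℕ
  card : ℕ
  τ : A →ₗ[ℝ] ℝ
  hq : 2 ≤ q
  hr : 2 ≤ r
  hcard : 0 < card
  sqS : S * S = ((q : ℝ) - 1) • S + (q : ℝ) • 1
  sqT : T * T = ((r : ℝ) - 1) • T + (r : ℝ) • 1
  trOne : τ 1 = card
  trS : τ S = 0
  trComm : ∀ a b : A, τ (a * b) = τ (b * a)
  trIdem : ∀ a : A, a * a = a → ∃ R : ℕ, τ a = R

namespace HeckeData

variable (D : HeckeData A)

/-- the idempotent of the first parabolic subgroup -/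
noncomputable def e : A := ((D.q : ℝ) + 1)⁻¹ • (1 + D.S)

theorem qpos : (D.q : ℝ) + 1 ≠ 0 := by positivity

theorem e_smul : ((D.q : ℝ) + 1) • D.e = 1 + D.S := smul_inv_smul₀ D.qpos _

theorem e_S : D.e * D.S = (D.q : ℝ) • D.e := by
  simp only [e, smul_mul_assoc, add_mul, one_mul, D.sqS]
  module

theorem S_e : D.S * D.e = (D.q : ℝ) • D.e := by
  simp only [e, mul_smul_comm, mul_add, mul_one, D.sqS]
  module

theorem e_e : D.e * D.e = D.e := by
  nth_rewrite 2 [e]
  rw [mul_smul_comm, mul_add, mul_one, D.e_S, inv_smul_eq_iff₀ D.qpos]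
  module

/-- `(TS)^i T` -/
def u (i : ℕ) : A := (D.T * D.S) ^ i * D.T

theorem u_succ (i : ℕ) : D.u (i + 1) = D.T * (D.S * D.u i) := by
  simp [u, pow_succ', mul_assoc]

/-- `(q+1) e (TS)^i T e` -/
noncomputable def c (i : ℕ) : A := ((D.q : ℝ) + 1) • (D.e * D.u i * D.e)

/-- the generator of the corner algebra -/
noncomputable def gX : A := D.c 0 - ((D.r : ℝ) - 1) • D.e

theorem e_c (i : ℕ) : D.e * D.c i = D.c i := by
  rw [c, mul_smul_comm, ← mul_assoc, ← mul_assoc, D.e_e]

theorem c_e (i : ℕ) : D.c i * D.e = D.c i := by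
  rw [c, smul_mul_assoc, mul_assoc, D.e_e]

theorem c0_mul_c (i : ℕ) : D.c 0 * D.c i =
    ((D.q : ℝ) + 1) • (D.e * (D.T * D.u i) * D.e) + D.c (i + 1) := by
  have h : D.e * D.T * D.e * (D.e * D.u i * D.e) = D.e * D.T * D.e * D.u i * D.e := by
    rw [mul_assoc (D.e * D.T) D.e, ← mul_assoc D.e (D.e * D.u i), ← mul_assoc D.e D.e, D.e_e]
    simp only [mul_assoc]
  rw [c, c, c, smul_mul_smul_comm, show D.u 0 = D.T by simp [u], h, D.u_succ]
  have h2 : ((D.q : ℝ) + 1) • (D.e * D.T * D.e * D.u i * D.e)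
      = D.e * (D.T * D.u i) * D.e + D.e * (D.T * (D.S * D.u i)) * D.e := by
    rw [← smul_mul_assoc, ← smul_mul_assoc, ← mul_smul_comm, D.e_smul]
    simp only [mul_add, add_mul, mul_one, mul_assoc]
  rw [mul_smul, h2, smul_add]

theorem gX_mul_c (i : ℕ) : D.gX * D.c (i + 1) = D.c (i + 2) + ((D.q : ℝ) * D.r) • D.c i := by
  rw [gX, sub_mul, D.c0_mul_c, smul_mul_assoc, D.e_c]
  have h : D.T * D.u (i + 1) = ((D.r : ℝ) - 1) • D.u (i + 1) + (D.r : ℝ) • (D.S * D.u i) := by
    rw [D.u_succ, ← mul_assoc, D.sqT, add_mul, smul_mul_assoc, smul_mul_assoc, one_mul]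
  rw [h, mul_add, add_mul, mul_smul_comm, mul_smul_comm, smul_mul_assoc, smul_mul_assoc,
    ← mul_assoc D.e D.S, D.e_S, smul_mul_assoc, smul_mul_assoc]
  simp only [c]
  module

theorem gX_mul_c0 : D.gX * D.c 0 = D.c 1 + ((D.r : ℝ) * (D.q + 1)) • D.e := by
  rw [gX, sub_mul, D.c0_mul_c, smul_mul_assoc, D.e_c]
  rw [show D.u 0 = D.T by simp [u], D.sqT, mul_add, add_mul, mul_smul_comm, mul_smul_comm,
    smul_mul_assoc, smul_mul_assoc, mul_one, D.e_e]
  simp only [c, show D.u 0 = D.T by simp [u]]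
  module

/-- evaluation into the corner algebra -/
noncomputable def psi : ℝ[X] →ₗ[ℝ] A :=
  (LinearMap.mulRight ℝ D.e).comp (aeval D.gX).toLinearMap

theorem psi_apply (f : ℝ[X]) : D.psi f = aeval D.gX f * D.e := rfl

theorem gX_comm_e : Commute D.gX D.e := by
  show D.gX * D.e = D.e * D.gX
  rw [gX, sub_mul, mul_sub, D.c_e, D.e_c, smul_mul_assoc, mul_smul_comm]

theorem psi_one : D.psi 1 = D.e := by simp [psi_apply]

theorem psi_C (a : ℝ) : D.psi (C a) = a • D.e := by
  simp [psi_apply, Algebra.smul_def]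

theorem psi_C_mul (a : ℝ) (f : ℝ[X]) : D.psi (C a * f) = a • D.psi f := by
  rw [← smul_eq_C_mul, map_smul]

theorem psi_X_mul (f : ℝ[X]) : D.psi (X * f) = D.gX * D.psi f := by
  simp [psi_apply, mul_assoc]

theorem psi_mul (f g : ℝ[X]) : D.psi (f * g) = D.psi f * D.psi g := by
  have hc : ∀ g : ℝ[X], Commute (aeval D.gX g) D.e := fun g => by
    induction g using Polynomial.induction_on with
    | C a => simpa using Algebra.commute_algebraMap_left a D.e
    | add a b ha hb => simpa using ha.add_left hb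
    | monomial n a ih => simpa using (Algebra.commute_algebraMap_left a D.e).mul_left (D.gX_comm_e.pow_left _)
  simp only [psi_apply, map_mul]
  rw [mul_assoc (aeval D.gX f) D.e, ← mul_assoc D.e, ← (hc g).eq, mul_assoc (aeval D.gX g), D.e_e,
    mul_assoc]

theorem psi_polP : ∀ i : ℕ, D.psi (polP D.q D.r i) = D.c i
  | 0 => by
    rw [polP, map_add, D.psi_C, ← mul_one (X : ℝ[X]), D.psi_X_mul, D.psi_one, D.gX_comm_e.eq, gX,
      mul_sub, D.e_c, mul_smul_comm, D.e_e, sub_add_cancel]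
  | 1 => by
    have h0 := psi_polP 0
    simp only [polP] at h0
    rw [polP, map_sub, D.psi_C, D.psi_X_mul, h0, D.gX_mul_c0, add_sub_cancel_right]
  | k + 2 => by
    rw [polP, map_sub, D.psi_C_mul, D.psi_X_mul, psi_polP (k + 1), psi_polP k, D.gX_mul_c,
      add_sub_cancel_right]

/-- the trace form on polynomials -/
noncomputable def trP : ℝ[X] →ₗ[ℝ] ℝ := D.τ.comp D.psi

theorem trP_C_mul (a : ℝ) (f : ℝ[X]) : D.trP (C a * f) = a * D.trP f := by
  rw [← smul_eq_C_mul, map_smul, smul_eq_mul]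

theorem trP_one : ((D.q : ℝ) + 1) * D.trP 1 = D.card := by
  have h : D.τ (((D.q : ℝ) + 1) • D.e) = D.card := by
    rw [D.e_smul, map_add, D.trOne, D.trS, add_zero]
  rw [map_smul, smul_eq_mul] at h
  rw [trP, LinearMap.comp_apply, D.psi_one]
  exact h

/-- trace of `c i` from the traces of the short products -/
theorem tr_c (i : ℕ) (h1 : D.τ (D.u i) = 0) (h2 : D.τ ((D.T * D.S) ^ (i + 1)) = 0) :
    D.τ (D.c i) = 0 := by
  rw [c, map_smul, D.trComm, ← mul_assoc, D.e_e, D.trComm, e, mul_smul_comm, map_smul, mul_add,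
    mul_one, map_add, h1, u, mul_assoc, ← pow_succ, h2]
  simp

theorem trP_chebV (m : ℕ) (hz : ∀ i < m, D.τ (D.c i) = 0) : ∀ k ≤ m,
    D.trP (chebV (D.q * D.r) k) = coeffL D.r k * D.trP 1
  | 0, _ => by simp [chebV, coeffL]
  | 1, hk => by
    have h : D.trP (polP D.q D.r 0) = 0 := by
      rw [trP, LinearMap.comp_apply, D.psi_polP, hz 0 hk]
    rw [polP, map_add, ← mul_one (C ((D.r : ℝ) - 1)), D.trP_C_mul] at h
    simp only [chebV, coeffL]
    linarith
  | k + 2, hk => by
    have h : D.trP (polP D.q D.r (k + 1)) = 0 := by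
      rw [trP, LinearMap.comp_apply, D.psi_polP, hz (k + 1) hk]
    rw [polP_succ, map_sub, map_add, D.trP_C_mul, D.trP_C_mul, trP_chebV m hz (k + 1) (by omega),
      trP_chebV m hz k (by omega)] at h
    simp only [coeffL]
    linarith

/-- the trace of a spectral idempotent is a natural number -/
theorem exists_rank (F g : ℝ[X]) (l : ℝ) (hF : D.psi F = 0) (hg : (X - C l) * g = F)
    (hne : g.eval l ≠ 0) : ∃ R : ℕ, (R : ℝ) * g.eval l = D.trP g := by
  obtain ⟨Q, hQ⟩ := dvd_iff_isRoot.2 (show IsRoot (g - C (g.eval l)) l by simp [IsRoot])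
  have hgg : D.psi g * D.psi g = g.eval l • D.psi g := by
    have : g * g = C (g.eval l) * g + F * Q := by
      rw [← hg]; linear_combination g * hQ
    rw [← D.psi_mul, this, map_add, D.psi_C_mul, D.psi_mul, hF, zero_mul, add_zero]
  obtain ⟨R, hR⟩ := D.trIdem ((g.eval l)⁻¹ • D.psi g) (by
    rw [smul_mul_smul_comm, hgg, smul_smul, mul_assoc, inv_mul_cancel₀ hne, mul_one])
  refine ⟨R, ?_⟩
  rw [map_smul, smul_eq_mul] at hR
  rw [← hR, trP, LinearMap.comp_apply]
  field_simp

end HeckeData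

end CfsgLib.Lie.FeitHigman
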