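import Cfsg.Agent.Lib.Lie.FeitHigman.Spectrum

/-!
# Feit–Higman: the bound on the length of the braid relation
-/

set_option autoImplicit false

namespace CfsgLib.Lie.FeitHigman

open Polynomial

variable {A : Type*} [Ring A] [Algebra ℝ A]

namespace HeckeData

variable (D : HeckeData A)

theorem rat_even (k : ℕ) (hz : ∀ i < k + 2, D.τ (D.c i) = 0)
    (hb : (D.T * D.S) ^ (k + 2) = (D.S * D.T) ^ (k + 2)) (φ : ℝ) (hs : Real.sin φ ≠ 0)
    (hm : Real.sin ((k + 2 : ℕ) * φ) = 0) :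
    ∃ a : ℚ, 2 * Real.sqrt ((D.q : ℝ) * D.r) * Real.cos φ = a := by
  set ρ : ℝ := Real.sqrt ((D.q : ℝ) * D.r) with hρ
  have hρ2 : ρ ^ 2 = (D.q : ℝ) * D.r := Real.sq_sqrt (by positivity)
  have hρ0 : 0 < ρ := Real.sqrt_pos.2 (by have := D.hq; have := D.hr; positivity)
  have root : ∀ ψ : ℝ, Real.sin ψ ≠ 0 → Real.sin ((k + 2 : ℕ) * ψ) = 0 →
      (chebV (D.q * D.r) (k + 1)).eval (2 * ρ * Real.cos ψ) = 0 ∧
      (2 * ρ * Real.cos ψ) ^ 2 < 4 * ((D.q : ℝ) * D.r) := by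
    intro ψ h1 h2
    have h := chebV_cos ρ ψ (k + 1)
    rw [h2, mul_zero, hρ2] at h
    refine ⟨(mul_eq_zero.1 h).resolve_right h1, ?_⟩
    have h3 : 0 < Real.sin ψ ^ 2 := by positivity
    nlinarith [Real.sin_sq_add_cos_sq ψ, mul_pos (pow_pos hρ0 2) h3]
  obtain ⟨hl, hl2⟩ := root φ hs hm
  obtain ⟨hl', hl2'⟩ := root (Real.pi - φ) (by rwa [Real.sin_pi_sub])
    (by rw [mul_sub, Real.sin_nat_mul_pi_sub, hm]; simp)
  rw [Real.cos_pi_sub, mul_neg] at hl' hl2'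
  generalize 2 * ρ * Real.cos φ = l at hl hl2 hl' hl2' ⊢
  obtain ⟨R, hR⟩ := D.even_rank k hz hb l hl hl2
  obtain ⟨R', hR'⟩ := D.even_rank k hz hb (-l) hl' hl2'
  have hq2 : (2 : ℝ) ≤ D.q := by exact_mod_cast D.hq
  have hr2 : (2 : ℝ) ≤ D.r := by exact_mod_cast D.hr
  have hN : (0 : ℝ) < D.card := by exact_mod_cast D.hcard
  have hR0 : (R : ℝ) ≠ 0 := by
    intro h; rw [h] at hR; nlinarith
  have hR0' : (R' : ℝ) ≠ 0 := by
    intro h; rw [h] at hR'; nlinarith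
  have hRp : (0 : ℝ) < (R : ℝ) + R' :=
    add_pos_of_pos_of_nonneg (lt_of_le_of_ne (Nat.cast_nonneg R) hR0.symm) (Nat.cast_nonneg R')
  set K : ℚ := 4 * R * R' * (k + 2) - D.card * (R + R') with hK
  set c0 : ℚ := (4 * R * R' * (k + 2) * ((1 + D.q * D.r) * (D.q + D.r))
    - 4 * (D.q * D.r) * D.card * (R + R')) with hc0
  have e3 : l ^ 2 * (K : ℝ) = (c0 : ℝ) := by
    rw [hK, hc0]; push_cast
    linear_combination (R' : ℝ) * hR + (R : ℝ) * hR'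
  have hK0 : (K : ℝ) ≠ 0 := by
    intro h
    have h4 : (c0 : ℝ) = 0 := by rw [← e3, h, mul_zero]
    rw [hK] at h; rw [hc0] at h4
    push_cast at h h4
    have : (D.card : ℝ) * (R + R') * ((1 + D.q * D.r) * (D.q + D.r) - 4 * (D.q * D.r)) = 0 := by
      linear_combination h4 - ((1 + (D.q : ℝ) * D.r) * (D.q + D.r)) * h
    have hpos : 0 < (1 + (D.q : ℝ) * D.r) * (D.q + D.r) - 4 * (D.q * D.r) := by nlinarith
    exact absurd this (mul_ne_zero (mul_ne_zero hN.ne' hRp.ne') hpos.ne')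
  refine ⟨((R : ℚ) - R') * (c0 / K - (1 + D.q * D.r) * (D.q + D.r))
    / (((D.q : ℚ) - 1) * (D.r - 1) * (R + R')), ?_⟩
  push_cast
  have hc : (c0 : ℝ) / K = l ^ 2 := by rw [← e3]; field_simp
  rw [hc, eq_div_iff (mul_ne_zero (mul_ne_zero (by linarith) (by linarith)) hRp.ne')]
  apply mul_left_cancel₀ (show (2 * ((k : ℝ) + 2)) ≠ 0 by positivity)
  linear_combination hR' - hR

theorem rat_odd (hqr : D.r = D.q) (k : ℕ) (hz : ∀ i < k + 2, D.τ (D.c i) = 0)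
    (hb : (D.T * D.S) ^ (k + 2) * D.T = (D.S * D.T) ^ (k + 2) * D.S) :
    ∃ a : ℚ, 2 * (D.q : ℝ) * Real.cos (((2 / (2 * k + 5 : ℕ) : ℚ) : ℝ) * Real.pi) = a := by
  set φ : ℝ := ((2 / (2 * k + 5 : ℕ) : ℚ) : ℝ) * Real.pi with hφ
  have hn : (2 * (k : ℝ) + 5) * φ = 2 * Real.pi := by
    rw [hφ]; push_cast; field_simp
  have hpi := Real.pi_pos
  have hk0 : (0 : ℝ) ≤ k := Nat.cast_nonneg k
  have hφ0 : 0 < φ := by nlinarith
  have hφ1 : φ < Real.pi := by nlinarith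
  have hs : 0 < Real.sin φ := Real.sin_pos_of_pos_of_lt_pi hφ0 hφ1
  have hp : (D.q : ℝ) * D.r = (D.q : ℝ) ^ 2 := by rw [hqr, sq]
  have h2 := chebV_cos (D.q : ℝ) φ (k + 2)
  have h1 := chebV_cos (D.q : ℝ) φ (k + 1)
  have e : Real.sin ((k + 2 + 1 : ℕ) * φ) + Real.sin ((k + 1 + 1 : ℕ) * φ) = 0 := by
    have : ((k + 2 + 1 : ℕ) : ℝ) * φ = 2 * Real.pi - ((k + 1 + 1 : ℕ) : ℝ) * φ := by
      push_cast; linarith
    rw [this, Real.sin_two_pi_sub]; ring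
  have hl : (chebV (D.q * D.r) (k + 2)).eval (2 * D.q * Real.cos φ)
      + D.q * (chebV (D.q * D.r) (k + 1)).eval (2 * D.q * Real.cos φ) = 0 := by
    apply mul_right_cancel₀ hs.ne'
    rw [hp]
    linear_combination h2 + (D.q : ℝ) * h1 + (D.q : ℝ) ^ (k + 2) * e
  have hq2 : (2 : ℝ) ≤ D.q := by exact_mod_cast D.hq
  have hl2 : (2 * (D.q : ℝ) * Real.cos φ) ^ 2 < 4 * ((D.q : ℝ) * D.r) := by
    rw [hp]
    have : 0 < (D.q : ℝ) ^ 2 * Real.sin φ ^ 2 := by positivity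
    nlinarith [Real.sin_sq_add_cos_sq φ]
  generalize 2 * (D.q : ℝ) * Real.cos φ = l at hl hl2 ⊢
  obtain ⟨R, hR⟩ := D.odd_rank hqr k hz hb l hl hl2
  have hN : (0 : ℝ) < D.card := by exact_mod_cast D.hcard
  have hK : (R : ℝ) * (2 * k + 5) - D.card ≠ 0 := by
    intro h
    have : (D.card : ℝ) * ((1 + D.q * D.r) - 2 * D.q) = 0 := by
      linear_combination -hR + (l - (1 + (D.q : ℝ) * D.r)) * h
    rw [hp] at this
    have h5 := (mul_eq_zero.1 this).resolve_left hN.ne'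
    nlinarith
  refine ⟨((R : ℚ) * (2 * k + 5) * (1 + D.q * D.r) - D.card * (2 * D.q)) / (R * (2 * k + 5) - D.card), ?_⟩
  push_cast
  rw [eq_div_iff hK]
  linear_combination hR

theorem den_two_div {m : ℕ} (h5 : 5 ≤ m) (h6 : m ≠ 6) : 3 < (2 / (m : ℚ)).den := by
  set x : ℚ := 2 / (m : ℚ)
  have hm : (m : ℚ) ≠ 0 := by positivity
  have h : x.num * (m : ℤ) = 2 * x.den := by
    have h2 : (x.num : ℚ) / x.den = 2 / (m : ℚ) := Rat.num_div_den x
    rw [div_eq_div_iff (by exact_mod_cast x.den_nz) hm] at h2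
    exact_mod_cast h2
  have hn : 0 < x.num := Rat.num_pos.2 (by positivity)
  rcases eq_or_lt_of_le (Int.add_one_le_of_lt hn) with h1 | h1
  · rw [← h1] at h; omega
  · have : 2 * (m : ℤ) ≤ x.num * m := mul_le_mul_of_nonneg_right (by omega) (by positivity)
    omega

theorem no_odd (hqr : D.r = D.q) (k : ℕ) (hz : ∀ i < k + 2, D.τ (D.c i) = 0)
    (hb : (D.T * D.S) ^ (k + 2) * D.T = (D.S * D.T) ^ (k + 2) * D.S) : False := by
  obtain ⟨a, ha⟩ := D.rat_odd hqr k hz hb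
  refine irrational_cos_rat_mul_pi (den_two_div (m := 2 * k + 5) (by omega) (by omega)) ⟨a / (2 * D.q), ?_⟩
  have := D.hq
  have hq : (D.q : ℝ) ≠ 0 := by positivity
  push_cast at ha ⊢
  rw [← ha]; field_simp

theorem even_le_four (m : ℕ) (hm : 5 ≤ m) (hz : ∀ i < m, D.τ (D.c i) = 0)
    (hb : (D.T * D.S) ^ m = (D.S * D.T) ^ m) : False := by
  obtain ⟨k, rfl⟩ : ∃ k, m = k + 2 := ⟨m - 2, by omega⟩
  have hpi := Real.pi_pos
  have hk : (3 : ℝ) ≤ k := by exact_mod_cast (show 3 ≤ k by omega)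
  have key : ∀ j : ℕ, 0 < j → j < k + 2 →
      ∃ a : ℚ, 2 * Real.sqrt ((D.q : ℝ) * D.r) * Real.cos (j * Real.pi / (k + 2)) = a := by
    intro j hj0 hj
    have hj0' : (0 : ℝ) < j := by exact_mod_cast hj0
    have hj' : (j : ℝ) < k + 2 := by exact_mod_cast hj
    refine D.rat_even k hz hb _ (Real.sin_pos_of_pos_of_lt_pi (by positivity) ?_).ne' ?_
    · rw [div_lt_iff₀ (by positivity)]; nlinarith
    · rw [show ((k + 2 : ℕ) : ℝ) * (j * Real.pi / (k + 2)) = j * Real.pi by push_cast; field_simp]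
      exact Real.sin_nat_mul_pi j
  obtain ⟨a, ha⟩ := key 1 one_pos (by omega)
  have hp : (0 : ℝ) < (D.q : ℝ) * D.r := by have := D.hq; have := D.hr; positivity
  have hsq := Real.sq_sqrt hp.le
  by_cases h6 : k = 4
  · subst h6
    obtain ⟨b, hb2⟩ := key 2 two_pos (by omega)
    rw [show ((1 : ℕ) : ℝ) * Real.pi / ((4 : ℕ) + 2 : ℝ) = Real.pi / 6 by push_cast; ring,
      Real.cos_pi_div_six] at ha
    rw [show ((2 : ℕ) : ℝ) * Real.pi / ((4 : ℕ) + 2 : ℝ) = Real.pi / 3 by push_cast; ring,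
      Real.cos_pi_div_three] at hb2
    have hb0 : (b : ℝ) ≠ 0 := by rw [← hb2]; have := Real.sqrt_pos.2 hp; positivity
    refine (Nat.prime_three.irrational_sqrt) ⟨a / b, ?_⟩
    push_cast
    rw [div_eq_iff hb0, ← ha, ← hb2]; ring
  refine irrational_cos_rat_mul_pi (den_two_div (m := k + 2) (by omega) (by omega))
    ⟨a ^ 2 / (2 * D.q * D.r) - 1, ?_⟩
  have hc : ((2 / ((k + 2 : ℕ) : ℚ) : ℚ) : ℝ) * Real.pi = 2 * (((1 : ℕ) : ℝ) * Real.pi / (k + 2)) := by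
    push_cast; ring
  rw [hc, Real.cos_two_mul]
  push_cast at ha ⊢
  rw [← ha, mul_pow, mul_pow, hsq]
  have : (D.q : ℝ) ≠ 0 ∧ (D.r : ℝ) ≠ 0 := by constructor <;> intro h <;> simp [h] at hp
  obtain ⟨_, _⟩ := this
  field_simp

end HeckeData

end CfsgLib.Lie.FeitHigman
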