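import Cfsg.Agent.Lib.Lie.ExchangeGroup

/-!
# Groups generated by two involutions: lengths of alternating words
-/

set_option autoImplicit false

namespace CfsgLib.Lie.FeitHigman

open CfsgLib.Lie.Exchange

variable {W ι : Type*} [Group W] {f : ι → W}

theorem orderOf_symm (h : GenInv f) (s t : ι) : orderOf (f t * f s) = orderOf (f s * f t) := by
  rw [← orderOf_inv (f t * f s), mul_inv_rev, h.inv, h.inv]

theorem alt_two_mul (s t : ι) : ∀ i : ℕ, wprod f (alt s t (2 * i)) = (f s * f t) ^ i
  | 0 => by simp [alt]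
  | i + 1 => by
    rw [show 2 * (i + 1) = 2 * i + 1 + 1 by omega, alt, alt, wprod_cons, wprod_cons, alt_two_mul s t i,
      pow_succ', mul_assoc]

theorem alt_two_mul_succ (s t : ι) (i : ℕ) : wprod f (alt s t (2 * i + 1)) = (f s * f t) ^ i * f s := by
  induction i with
  | zero => simp [alt]
  | succ i ih =>
    rw [show 2 * (i + 1) + 1 = 2 * i + 1 + 1 + 1 by omega, alt, alt, wprod_cons, wprod_cons, ih, pow_succ']
    simp only [mul_assoc]

theorem inv_eq_conj (h : GenInv f) (s t : ι) : f s * (f s * f t) * (f s)⁻¹ = (f s * f t)⁻¹ := by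
  rw [mul_inv_rev, h.inv, h.inv, ← mul_assoc, h.sq, one_mul]

theorem alt_ne_one (h : GenInv f) (hne : ∀ i, f i ≠ 1) {s t : ι} {d : ℕ} (hd0 : 0 < d)
    (hd : d < 2 * orderOf (f s * f t)) : wprod f (alt s t d) ≠ 1 := by
  rcases Nat.even_or_odd' d with ⟨i, rfl | rfl⟩
  · rw [alt_two_mul]
    exact pow_ne_one_of_lt_orderOf (by omega) (by omega)
  · rw [alt_two_mul_succ]
    intro he
    rcases Nat.lt_or_ge 2 (orderOf (f s * f t)) with hn | hn
    · have hc : Commute (f s) (f s * f t) := by
        have hfs : f s = ((f s * f t) ^ i)⁻¹ := eq_inv_of_mul_eq_one_right he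
        nth_rewrite 1 [hfs]
        exact ((Commute.refl (f s * f t)).pow_left i).inv_left
      have hinv := inv_eq_conj h s t
      rw [hc.eq, mul_inv_cancel_right] at hinv
      exact pow_ne_one_of_lt_orderOf two_ne_zero hn (by rw [sq]; nth_rewrite 2 [hinv]; exact mul_inv_cancel _)
    · have hi : i = 0 ∨ i = 1 := by omega
      rcases hi with rfl | rfl
      · exact hne s (by simpa using he)
      · apply hne t
        rw [pow_one] at he
        have e2 : f t = f s * (f s * f t * f s) * f s := by simp [mul_assoc, h.sq, h.cancel]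
        rw [e2, he, mul_one, h.sq]

/-- quotient of two alternating words with different first letters -/
theorem inv_alt_mul_alt (h : GenInv f) : ∀ (j k : ℕ) (s t : ι), ∃ u v : ι,
    ((u = s ∧ v = t) ∨ (u = t ∧ v = s)) ∧
      (wprod f (alt t s j))⁻¹ * wprod f (alt s t k) = wprod f (alt u v (j + k))
  | 0, k, s, t => ⟨s, t, Or.inl ⟨rfl, rfl⟩, by simp [alt]⟩
  | j + 1, k, s, t => by
    obtain ⟨u, v, huv, e⟩ := inv_alt_mul_alt h j (k + 1) t s
    refine ⟨u, v, huv.symm, ?_⟩
    rw [show j + 1 + k = j + (k + 1) by omega, ← e]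
    simp [alt, h.inv, mul_assoc]

/-- quotient of two alternating words with equal first letters -/
theorem alt_cancel (h : GenInv f) : ∀ (j : ℕ) (k : ℕ) (s t : ι), ∃ u v : ι,
    ((u = s ∧ v = t) ∨ (u = t ∧ v = s)) ∧
      (wprod f (alt s t j))⁻¹ * wprod f (alt s t (j + k)) = wprod f (alt u v k)
  | 0, k, s, t => ⟨s, t, Or.inl ⟨rfl, rfl⟩, by simp [alt]⟩
  | j + 1, k, s, t => by
    obtain ⟨u, v, huv, e⟩ := alt_cancel h j k t s
    refine ⟨u, v, huv.symm, ?_⟩
    rw [show j + 1 + k = (j + k) + 1 by omega, ← e]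
    simp [alt]

/-- a reduced word in two letters is alternating -/
theorem reduced_eq_alt (h : GenInv f) {s t : ι} (hall : ∀ x, x = s ∨ x = t) :
    ∀ l : List ι, WReduced f l → l = alt s t l.length ∨ l = alt t s l.length
  | [] => fun _ => Or.inl rfl
  | [a] => fun _ => by rcases hall a with rfl | rfl <;> simp [alt]
  | a :: b :: l => fun hr => by
    have hr' := h.reduced_of_cons hr
    have hab : a ≠ b := by
      rintro rfl
      unfold WReduced at hr
      rw [wprod_cons, wprod_cons, h.cancel] at hr
      have := wlen_le f l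
      simp only [List.length_cons] at hr
      omega
    rcases reduced_eq_alt h hall (b :: l) hr' with e | e
    · have hb : b = s := by simpa [alt] using congrArg List.head? e
      have ha : a = t := (hall a).resolve_left (hb ▸ hab)
      exact Or.inr (by rw [List.length_cons, alt, ← e, ha])
    · have hb : b = t := by simpa [alt] using congrArg List.head? e
      have ha : a = s := (hall a).resolve_right (hb ▸ hab)
      exact Or.inl (by rw [List.length_cons, alt, ← e, ha])

theorem wlen_alt (h : GenInv f) (hne : ∀ i, f i ≠ 1) {s t : ι} (hall : ∀ x, x = s ∨ x = t) {k : ℕ}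
    (hk : k ≤ orderOf (f s * f t)) : wlen f (wprod f (alt s t k)) = k := by
  refine le_antisymm ((wlen_le f _).trans (le_of_eq (length_alt s t k))) ?_
  by_contra hlt
  obtain ⟨l, hl, hll⟩ := h.exists_reduced (wprod f (alt s t k))
  have hr : WReduced f l := by rw [WReduced, hl, hll]
  set j := l.length with hj
  have hjk : j < k := by omega
  have fin : ∀ (u v : ι) (d : ℕ), ((u = s ∧ v = t) ∨ (u = t ∧ v = s)) → 0 < d → d < 2 * orderOf (f s * f t) →
      wprod f (alt u v d) ≠ 1 := by
    rintro u v d (⟨rfl, rfl⟩ | ⟨rfl, rfl⟩) h0 h1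
    · exact alt_ne_one h hne h0 h1
    · exact alt_ne_one h hne h0 (by rwa [orderOf_symm h])
  rcases reduced_eq_alt h hall l hr with e | e
  · obtain ⟨d, rfl⟩ : ∃ d, k = j + d := ⟨k - j, by omega⟩
    obtain ⟨u, v, huv, e'⟩ := alt_cancel h j d s t
    rw [← e, hl, inv_mul_cancel] at e'
    exact fin u v d huv (by omega) (by omega) e'.symm
  · obtain ⟨u, v, huv, e'⟩ := inv_alt_mul_alt h j k s t
    rw [← e, hl, inv_mul_cancel] at e'
    exact fin u v (j + k) huv (by omega) (by omega) e'.symm

theorem card_dihedral (h : GenInv f) (hne : ∀ i, f i ≠ 1) [Finite W] {s t : ι} (hall : ∀ x, x = s ∨ x = t) :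
    Nat.card W = 2 * orderOf (f s * f t) := by
  set z := f s * f t with hz
  have hn : 0 < orderOf z := orderOf_pos z
  have hsn : f s ∉ Subgroup.zpowers z := by
    intro hs
    obtain ⟨i, hi⟩ := (Submonoid.mem_powers_iff _ _).1 (mem_powers_iff_mem_zpowers.2 hs)
    rw [← pow_mod_orderOf z i] at hi
    rcases Nat.eq_zero_or_pos (i % orderOf z) with h0 | h0
    · rw [h0, pow_zero] at hi; exact hne s hi.symm
    · obtain ⟨i', hi'⟩ : ∃ i', i % orderOf z = i' + 1 := ⟨i % orderOf z - 1, by omega⟩
      have hlt := Nat.mod_lt i hn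
      have : wprod f (alt t s (2 * i' + 1)) = 1 := by
        have e : f s * z ^ (i' + 1) = 1 := by rw [← hi', hi, h.sq]
        rw [pow_succ', ← mul_assoc, hz, h.cancel] at e
        rw [alt_two_mul_succ]
        suffices (f t * f s) ^ i' * f t = f t * (f s * f t) ^ i' by rw [this]; exact e
        clear e hi hi' hlt
        induction i' with
        | zero => simp
        | succ j hj => rw [pow_succ', mul_assoc, hj, pow_succ']; simp only [mul_assoc]
      exact alt_ne_one h hne (by omega) (by rw [orderOf_symm h, ← hz]; omega) this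
  have hclosed : ∀ w : W, w ∈ Subgroup.zpowers z ∨ f s * w ∈ Subgroup.zpowers z := by
    have hzmem : z ∈ Subgroup.zpowers z := Subgroup.mem_zpowers z
    intro w
    obtain ⟨l, rfl⟩ := h.gen w
    induction l with
    | nil => exact Or.inl (by simp [one_mem])
    | cons a l ih =>
      rw [wprod_cons]
      rcases hall a with rfl | rfl
      · rcases ih with ih | ih
        · exact Or.inr (by rwa [h.cancel])
        · exact Or.inl ih
      · rcases ih with ih | ih
        · exact Or.inr (by rw [← mul_assoc]; exact mul_mem hzmem ih)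
        · refine Or.inl ?_
          have e : f a * wprod f l = z⁻¹ * (f s * wprod f l) := by
            rw [hz, mul_inv_rev, h.inv, h.inv, mul_assoc, h.cancel]
          rw [e]
          exact mul_mem (inv_mem hzmem) ih
  have hidx : (Subgroup.zpowers z).index = 2 := by
    refine Subgroup.index_eq_two_iff'.2 ⟨f s, fun w => ?_⟩
    rcases hclosed w with hw | hw
    · exact Or.inr ⟨hw, fun hsw => hsn (by simpa using mul_mem hsw (inv_mem hw))⟩
    · exact Or.inl ⟨hw, fun hw' => hsn (by simpa using mul_mem hw (inv_mem hw'))⟩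
  rw [← Subgroup.index_mul_card (Subgroup.zpowers z), hidx, Nat.card_zpowers]

end CfsgLib.Lie.FeitHigman
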