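import Cfsg.Agent.Lib.Lie.BNPair
import Cfsg.Agent.Lib.Lie.FeitHigman.Bound
import Cfsg.Agent.Lib.Lie.FeitHigman.Dihedral

/-!
# Feit–Higman: the Hecke algebra on `G ⧸ B`
-/

set_option autoImplicit false

namespace CfsgLib.Lie.FeitHigman

open CfsgLib.Lie.BN CfsgLib.Lie.Exchange
open scoped Classical

variable {G : Type*} [Group G] [Finite G] (P : Cfsg.BNPair G)

noncomputable local instance : Fintype (G ⧸ P.B) := Fintype.ofFinite _

/-- the operator of a cell -/
noncomputable def opw (w : WeylGp P) : Matrix (G ⧸ P.B) (G ⧸ P.B) ℝ :=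
  Matrix.of fun x y => if x.out⁻¹ * y.out ∈ cell P w then 1 else 0

theorem out_mk (g : G) : ∃ b ∈ P.B, (QuotientGroup.mk g : G ⧸ P.B).out = g * b := by
  obtain ⟨b, hb⟩ := QuotientGroup.mk_out_eq_mul P.B g
  exact ⟨b, b.2, hb⟩

theorem mem_cell_mk (w : WeylGp P) (g h : G) :
    ((QuotientGroup.mk g : G ⧸ P.B).out⁻¹ * (QuotientGroup.mk h : G ⧸ P.B).out ∈ cell P w) ↔
      g⁻¹ * h ∈ cell P w := by
  obtain ⟨b, hb, eb⟩ := out_mk P g
  obtain ⟨c, hc, ec⟩ := out_mk P h
  rw [eb, ec]
  constructor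
  · intro hm
    have := right_mul_mem_cell P (inv_mem hc) (left_mul_mem_cell P hb hm)
    simpa [mul_assoc] using this
  · intro hm
    have := right_mul_mem_cell P hc (left_mul_mem_cell P (inv_mem hb) hm)
    simpa [mul_assoc] using this

theorem mem_cell_right (w : WeylGp P) (x : G ⧸ P.B) (h : G) :
    (x.out⁻¹ * (QuotientGroup.mk h : G ⧸ P.B).out ∈ cell P w) ↔ x.out⁻¹ * h ∈ cell P w := by
  have := mem_cell_mk P w x.out h
  rwa [QuotientGroup.out_eq'] at this

theorem mem_cell_left (w : WeylGp P) (g : G) (y : G ⧸ P.B) :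
    ((QuotientGroup.mk g : G ⧸ P.B).out⁻¹ * y.out ∈ cell P w) ↔ g⁻¹ * y.out ∈ cell P w := by
  have := mem_cell_mk P w g y.out
  rwa [QuotientGroup.out_eq'] at this

theorem mem_B_iff (x y : G ⧸ P.B) : x.out⁻¹ * y.out ∈ P.B ↔ x = y := by
  rw [← QuotientGroup.eq, QuotientGroup.out_eq', QuotientGroup.out_eq']

theorem opw_one : opw P 1 = 1 := by
  ext x y
  simp [opw, Matrix.one_apply, mem_cell_one, mem_B_iff]

theorem opw_mul_apply (v w : WeylGp P) (x y : G ⧸ P.B) :
    (opw P v * opw P w) x y = ((Finset.univ.filter fun z : G ⧸ P.B =>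
      x.out⁻¹ * z.out ∈ cell P v ∧ z.out⁻¹ * y.out ∈ cell P w).card : ℝ) := by
  simp only [opw, Matrix.mul_apply, Matrix.of_apply]
  rw [Finset.card_filter, Nat.cast_sum]
  refine Finset.sum_congr rfl fun z _ => ?_
  by_cases h1 : x.out⁻¹ * z.out ∈ cell P v <;> by_cases h2 : z.out⁻¹ * y.out ∈ cell P w <;> simp [h1, h2]

theorem out_inv_mul (x y z : G ⧸ P.B) : x.out⁻¹ * y.out = (x.out⁻¹ * z.out) * (z.out⁻¹ * y.out) := by
  group

theorem opw_simple_mul (s : P.S) (w : WeylGp P)
    (hle : wlen (wgen P) w ≤ wlen (wgen P) (wgen P s * w)) :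
    opw P (wgen P s) * opw P w = opw P (wgen P s * w) := by
  ext x y
  rw [opw_mul_apply]
  simp only [opw, Matrix.of_apply]
  by_cases hxy : x.out⁻¹ * y.out ∈ cell P (wgen P s * w)
  · rw [if_pos hxy]
    obtain ⟨a, ha, b, hb, hab⟩ := cell_split_right P hxy
    have hz1 : x.out⁻¹ * (QuotientGroup.mk (x.out * a) : G ⧸ P.B).out ∈ cell P (wgen P s) := by
      rw [mem_cell_right]; simpa using ha
    have hz2 : (QuotientGroup.mk (x.out * a) : G ⧸ P.B).out⁻¹ * y.out ∈ cell P w := by
      rw [mem_cell_left]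
      rw [show (x.out * a)⁻¹ * y.out = a⁻¹ * (x.out⁻¹ * y.out) by group, hab, inv_mul_cancel_left]
      exact hb
    rw [Nat.cast_eq_one, Finset.card_eq_one]
    refine ⟨QuotientGroup.mk (x.out * a), Finset.eq_singleton_iff_unique_mem.2
      ⟨Finset.mem_filter.2 ⟨Finset.mem_univ _, hz1, hz2⟩, fun z hz => ?_⟩⟩
    obtain ⟨-, h1, h2⟩ := Finset.mem_filter.1 hz
    generalize (QuotientGroup.mk (x.out * a) : G ⧸ P.B) = z₀ at hz1 hz2
    have h3 : z.out⁻¹ * z₀.out ∈ cell P (wgen P s * wgen P s) ∪ cell P (wgen P s) := by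
      rw [out_inv_mul P z z₀ x]
      refine simple_mul_cell P s ?_ hz1
      rw [← (wgen_genInv P).inv s, show z.out⁻¹ * x.out = (x.out⁻¹ * z.out)⁻¹ by group]
      exact inv_mem_cell P h1
    rcases h3 with h3 | h3
    · rw [(wgen_genInv P).sq, mem_cell_one, mem_B_iff] at h3
      exact h3
    · exfalso
      have h4 := simple_mul_cell_eq P hle h3 hz2
      rw [← out_inv_mul P z y z₀] at h4
      have e := cell_inj P h4 h2
      exact wgen_ne_one P s (mul_eq_right.1 e)
  · rw [if_neg hxy, Nat.cast_eq_zero, Finset.card_eq_zero, Finset.filter_eq_empty_iff]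
    rintro z - ⟨h1, h2⟩
    apply hxy
    rw [out_inv_mul P x y z]
    exact simple_mul_cell_eq P hle h1 h2

/-- the number of cosets in a cell -/
noncomputable def qpar (w : WeylGp P) : ℕ :=
  (Finset.univ.filter fun z : G ⧸ P.B =>
    (QuotientGroup.mk 1 : G ⧸ P.B).out⁻¹ * z.out ∈ cell P w).card

theorem card_row (w : WeylGp P) (x : G ⧸ P.B) :
    (Finset.univ.filter fun z : G ⧸ P.B => x.out⁻¹ * z.out ∈ cell P w).card = qpar P w := by
  unfold qpar
  refine (Finset.card_equiv (MulAction.toPerm x.out) fun z => ?_).symm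
  induction z using QuotientGroup.induction_on with
  | _ g =>
    simp only [Finset.mem_filter, Finset.mem_univ, true_and, MulAction.toPerm_apply]
    rw [mem_cell_mk, show x.out • (QuotientGroup.mk g : G ⧸ P.B) = QuotientGroup.mk (x.out * g) from rfl]
    rw [mem_cell_right]
    simp

theorem opw_mulVec_one (w : WeylGp P) :
    Matrix.mulVec (opw P w) (fun _ => (1 : ℝ)) = (qpar P w : ℝ) • (fun _ => (1 : ℝ)) := by
  ext x
  simp only [Matrix.mulVec, dotProduct, opw, Matrix.of_apply, mul_one, Pi.smul_apply, smul_eq_mul]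
  rw [Finset.sum_boole, card_row]

theorem two_le_qpar (s : P.S) : 2 ≤ qpar P (wgen P s) := by
  obtain ⟨a, ha, b, hb, hab⟩ := exists_simple_mul_simple P s
  refine Finset.one_lt_card.2 ⟨QuotientGroup.mk a, ?_, QuotientGroup.mk (a * b), ?_, ?_⟩
  · rw [Finset.mem_filter, mem_cell_mk]; simpa using ha
  · rw [Finset.mem_filter, mem_cell_mk]; simpa using hab
  · intro e
    rw [QuotientGroup.eq, inv_mul_cancel_left] at e
    exact wgen_ne_one P s (cell_inj P hb ((mem_cell_one P).2 e))

theorem opw_simple_sq (s : P.S) : opw P (wgen P s) * opw P (wgen P s)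
    = ((qpar P (wgen P s) : ℝ) - 1) • opw P (wgen P s) + (qpar P (wgen P s) : ℝ) • 1 := by
  have hs := wgen_genInv P
  have hsym : ∀ {a : G}, a ∈ cell P (wgen P s) → a⁻¹ ∈ cell P (wgen P s) := fun {a} ha => by
    rw [← hs.inv s]; exact inv_mem_cell P ha
  ext x y
  rw [opw_mul_apply]
  simp only [Matrix.add_apply, Matrix.smul_apply, smul_eq_mul, Matrix.one_apply]
  simp only [opw, Matrix.of_apply]
  by_cases hxy : x = y
  · subst hxy
    have hno : x.out⁻¹ * x.out ∉ cell P (wgen P s) := by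
      intro hm
      exact wgen_ne_one P s (cell_inj P hm ((mem_cell_one P).2 (by simp [one_mem])))
    rw [if_neg hno, if_pos rfl, mul_zero, zero_add, mul_one, Nat.cast_inj, ← card_row P _ x]
    congr 1
    refine Finset.filter_congr fun z _ => ⟨And.left, fun h => ⟨h, ?_⟩⟩
    rw [show z.out⁻¹ * x.out = (x.out⁻¹ * z.out)⁻¹ by group]
    exact hsym h
  · rw [if_neg hxy, mul_zero, add_zero]
    by_cases hc : x.out⁻¹ * y.out ∈ cell P (wgen P s)
    · rw [if_pos hc, mul_one]
      have e : (Finset.univ.filter fun z : G ⧸ P.B =>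
          x.out⁻¹ * z.out ∈ cell P (wgen P s) ∧ z.out⁻¹ * y.out ∈ cell P (wgen P s))
          = (Finset.univ.filter fun z : G ⧸ P.B => x.out⁻¹ * z.out ∈ cell P (wgen P s)).erase y := by
        ext z
        simp only [Finset.mem_filter, Finset.mem_univ, true_and, Finset.mem_erase]
        constructor
        · rintro ⟨h1, h2⟩
          refine ⟨fun e => ?_, h1⟩
          subst e
          exact wgen_ne_one P s (cell_inj P h2 ((mem_cell_one P).2 (by simp [one_mem])))
        · rintro ⟨hzy, h1⟩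
          refine ⟨h1, ?_⟩
          have h3 : z.out⁻¹ * y.out ∈ cell P (wgen P s * wgen P s) ∪ cell P (wgen P s) := by
            rw [out_inv_mul P z y x, show z.out⁻¹ * x.out = (x.out⁻¹ * z.out)⁻¹ by group]
            exact simple_mul_cell P s (hsym h1) hc
          rcases h3 with h3 | h3
          · rw [hs.sq, mem_cell_one, mem_B_iff] at h3
            exact absurd h3 hzy
          · exact h3
      have hy : y ∈ Finset.univ.filter fun z : G ⧸ P.B => x.out⁻¹ * z.out ∈ cell P (wgen P s) :=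
        Finset.mem_filter.2 ⟨Finset.mem_univ _, hc⟩
      have hp := Finset.card_pos.2 ⟨y, hy⟩
      rw [e, Finset.card_erase_of_mem hy, Nat.cast_sub hp, Nat.cast_one, card_row]
    · rw [if_neg hc, mul_zero, Nat.cast_eq_zero, Finset.card_eq_zero, Finset.filter_eq_empty_iff]
      rintro z - ⟨h1, h2⟩
      have h3 := simple_mul_cell P s h1 h2
      rw [← out_inv_mul P x y z] at h3
      rcases h3 with h3 | h3
      · rw [hs.sq, mem_cell_one, mem_B_iff] at h3; exact hxy h3
      · exact hc h3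

theorem trace_opw {w : WeylGp P} (hw : w ≠ 1) : Matrix.trace (opw P w) = 0 := by
  refine Finset.sum_eq_zero fun x _ => if_neg fun hm => hw ?_
  exact cell_inj P hm ((mem_cell_one P).2 (by simp [one_mem]))

theorem trace_idem {X : Type*} [Fintype X] [DecidableEq X] (a : Matrix X X ℝ) (ha : a * a = a) :
    ∃ R : ℕ, Matrix.trace a = R := by
  have h : IsIdempotentElem (Matrix.toLin' a) := by
    show Matrix.toLin' a * Matrix.toLin' a = Matrix.toLin' a
    rw [Module.End.mul_eq_comp, ← Matrix.toLin'_mul, ha]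
  refine ⟨Module.finrank ℝ (LinearMap.range (Matrix.toLin' a)), ?_⟩
  rw [← Matrix.trace_toLin'_eq]
  exact ((LinearMap.isProj_range_iff_isIdempotentElem _).2 h).trace

/-- the Hecke data of a rank two pair -/
noncomputable def heckeData (s t : P.S) : HeckeData (Matrix (G ⧸ P.B) (G ⧸ P.B) ℝ) where
  S := opw P (wgen P s)
  T := opw P (wgen P t)
  q := qpar P (wgen P s)
  r := qpar P (wgen P t)
  card := Fintype.card (G ⧸ P.B)
  τ := Matrix.traceLinearMap (G ⧸ P.B) ℝ ℝ
  hq := two_le_qpar P s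
  hr := two_le_qpar P t
  hcard := Fintype.card_pos_iff.2 ⟨QuotientGroup.mk 1⟩
  sqS := opw_simple_sq P s
  sqT := opw_simple_sq P t
  trOne := by simp
  trS := trace_opw P (wgen_ne_one P s)
  trComm a b := Matrix.trace_mul_comm a b
  trIdem a ha := trace_idem a ha

/-- product of the simple operators along an alternating word -/
noncomputable def opAlt (s t : P.S) : ℕ → Matrix (G ⧸ P.B) (G ⧸ P.B) ℝ
  | 0 => 1
  | k + 1 => opw P (wgen P s) * opAlt t s k

theorem opAlt_eq {s t : P.S} (hall : ∀ x : P.S, x = s ∨ x = t) : ∀ k, k ≤ orderOf (wgen P s * wgen P t) →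
    opAlt P s t k = opw P (wprod (wgen P) (alt s t k)) := by
  intro k
  induction k generalizing s t with
  | zero => intro _; simp [opAlt, alt, opw_one]
  | succ k ih =>
    intro hk
    have hall' : ∀ x : P.S, x = t ∨ x = s := fun x => (hall x).symm
    have hk' : k + 1 ≤ orderOf (wgen P t * wgen P s) := by rwa [orderOf_symm (wgen_genInv P)]
    rw [opAlt, ih hall' (by omega), alt, wprod_cons]
    refine opw_simple_mul P s _ ?_
    have h1 := wlen_alt (wgen_genInv P) (wgen_ne_one P) hall' (k := k) (by omega)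
    have h2 := wlen_alt (wgen_genInv P) (wgen_ne_one P) hall hk
    rw [alt, wprod_cons] at h2
    omega

theorem opAlt_two_mul (s t : P.S) : ∀ i : ℕ,
    opAlt P s t (2 * i) = (opw P (wgen P s) * opw P (wgen P t)) ^ i
  | 0 => by simp [opAlt]
  | i + 1 => by
    rw [show 2 * (i + 1) = 2 * i + 1 + 1 by omega, opAlt, opAlt, opAlt_two_mul s t i, pow_succ', mul_assoc]

theorem opAlt_two_mul_succ (s t : P.S) : ∀ i : ℕ,
    opAlt P s t (2 * i + 1) = (opw P (wgen P s) * opw P (wgen P t)) ^ i * opw P (wgen P s)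
  | 0 => by simp [opAlt]
  | i + 1 => by
    rw [show 2 * (i + 1) + 1 = 2 * i + 1 + 1 + 1 by omega, opAlt, opAlt, opAlt_two_mul_succ s t i, pow_succ']
    simp only [mul_assoc]

theorem opAlt_mulVec (s t : P.S) (i : ℕ) : Matrix.mulVec (opAlt P s t (2 * i + 1)) (fun _ => (1 : ℝ))
    = ((qpar P (wgen P s) : ℝ) ^ (i + 1) * (qpar P (wgen P t) : ℝ) ^ i) • (fun _ => (1 : ℝ)) := by
  induction i with
  | zero => simp [opAlt, opw_mulVec_one]
  | succ i ih =>
    rw [show 2 * (i + 1) + 1 = 2 * i + 1 + 1 + 1 by omega, opAlt, opAlt, ← Matrix.mulVec_mulVec,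
      ← Matrix.mulVec_mulVec, ih, Matrix.mulVec_smul, Matrix.mulVec_smul, opw_mulVec_one,
      Matrix.mulVec_smul, opw_mulVec_one, smul_smul, smul_smul]
    congr 1
    ring

/-- Feit–Higman -/
theorem order_mem {s t : P.S} (hst : s ≠ t) (hall : ∀ x : P.S, x = s ∨ x = t) :
    orderOf (wgen P s * wgen P t) ∈ ({2, 3, 4, 6, 8} : Set ℕ) := by
  set n := orderOf (wgen P s * wgen P t) with hn
  have hg := wgen_genInv P
  have hn0 : 0 < n := orderOf_pos _
  have hn1 : n ≠ 1 := by
    intro h1
    rw [hn, orderOf_eq_one_iff] at h1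
    exact hst (wgen_inj P (by rw [eq_inv_of_mul_eq_one_left h1, hg.inv]))
  have hall' : ∀ x : P.S, x = t ∨ x = s := fun x => (hall x).symm
  have hn' : orderOf (wgen P t * wgen P s) = n := orderOf_symm hg s t
  set D := heckeData P s t with hD
  have hzero : ∀ d, 0 < d → d ≤ n → Matrix.trace (opAlt P t s d) = 0 := by
    intro d h0 hd
    rw [opAlt_eq P hall' d (by omega)]
    exact trace_opw P (alt_ne_one hg (wgen_ne_one P) h0 (by omega))
  have hz : ∀ m, 2 * m ≤ n → ∀ i < m, D.τ (D.c i) = 0 := by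
    intro m hm i hi
    refine D.tr_c i ?_ ?_
    · have h := hzero (2 * i + 1) (by omega) (by omega)
      rw [opAlt_two_mul_succ] at h
      exact h
    · have h := hzero (2 * (i + 1)) (by omega) (by omega)
      rw [opAlt_two_mul] at h
      exact h
  have hbraid : opAlt P t s n = opAlt P s t n := by
    rw [opAlt_eq P hall' n (by omega), opAlt_eq P hall n le_rfl]
    congr 1
    rw [← mul_inv_eq_one, alt_mul_inv hg]
    rw [← hn', pow_orderOf_eq_one]
  by_contra hbad
  simp only [Set.mem_insert_iff, Set.mem_singleton_iff, not_or] at hbad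
  rcases Nat.even_or_odd' n with ⟨m, hm | hm⟩
  · refine D.even_le_four m (by omega) (hz m (by omega)) ?_
    rw [hm, opAlt_two_mul, opAlt_two_mul] at hbraid
    exact hbraid
  · obtain ⟨k, rfl⟩ : ∃ k, m = k + 2 := ⟨m - 2, by omega⟩
    have hqr : qpar P (wgen P t) = qpar P (wgen P s) := by
      rw [hm] at hbraid
      have h := congrArg (fun M => Matrix.mulVec M (fun _ => (1 : ℝ))) hbraid
      simp only [opAlt_mulVec] at h
      have h' := congrFun h (QuotientGroup.mk 1)
      simp only [Pi.smul_apply, smul_eq_mul, mul_one, pow_succ] at h'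
      have hq : (qpar P (wgen P s) : ℝ) ≠ 0 := by
        have := two_le_qpar P s; positivity
      have hr : (qpar P (wgen P t) : ℝ) ≠ 0 := by
        have := two_le_qpar P t; positivity
      have : (qpar P (wgen P t) : ℝ) = qpar P (wgen P s) :=
        mul_left_cancel₀ (mul_ne_zero (pow_ne_zero (k + 2) hq) (pow_ne_zero (k + 2) hr)) (by
          linear_combination h')
      exact_mod_cast this
    refine D.no_odd hqr k (hz (k + 2) (by omega)) ?_
    rw [hm, opAlt_two_mul_succ, opAlt_two_mul_succ] at hbraid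
    exact hbraid

theorem weyl_card_mem (h2 : P.rank = 2) :
    ((P.B ⊓ P.N).subgroupOf P.N).index ∈ ({4, 6, 8, 12, 16} : Set ℕ) := by
  obtain ⟨s, t, hst, hu⟩ := Nat.card_eq_two_iff.1 (show Nat.card P.S = 2 from h2)
  have hall : ∀ x : P.S, x = s ∨ x = t := fun x => by
    have := hu.symm ▸ Set.mem_univ x
    simpa using this
  have h := order_mem P hst hall
  have hc := card_dihedral (wgen_genInv P) (wgen_ne_one P) hall
  rw [show ((P.B ⊓ P.N).subgroupOf P.N).index = Nat.card (WeylGp P) from rfl, hc]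
  simp only [Set.mem_insert_iff, Set.mem_singleton_iff] at h ⊢
  omega

end CfsgLib.Lie.FeitHigman
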