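import Cfsg.Agent.Lib.Lie.FeitHigman.Algebra

/-!
# Feit–Higman: the spectrum of the corner algebra
-/

set_option autoImplicit false

namespace CfsgLib.Lie.FeitHigman

open Polynomial

variable {A : Type*} [Ring A] [Algebra ℝ A]

namespace HeckeData

variable (D : HeckeData A)

/-- `(ST)^(i+1) S = S (TS)^i T S` -/
theorem st_pow_S (i : ℕ) : (D.S * D.T) ^ (i + 1) * D.S = D.S * D.u i * D.S := by
  induction i with
  | zero => simp [u]
  | succ i ih =>
    rw [pow_succ', mul_assoc, ih, D.u_succ]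
    simp only [mul_assoc]

theorem e_SuS_e (i : ℕ) : D.e * (D.S * D.u i * D.S) * D.e = ((D.q : ℝ) ^ 2) • (D.e * D.u i * D.e) := by
  rw [show D.e * (D.S * D.u i * D.S) * D.e = D.e * D.S * D.u i * (D.S * D.e) by simp only [mul_assoc],
    D.e_S, D.S_e, smul_mul_assoc, smul_mul_assoc, mul_smul_comm, smul_smul, sq]

theorem c_end_even (k : ℕ) (hb : (D.T * D.S) ^ (k + 2) = (D.S * D.T) ^ (k + 2)) :
    D.c (k + 2) = (((D.r : ℝ) - 1) * D.q) • D.c (k + 1) + ((D.r : ℝ) * D.q ^ 2) • D.c k := by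
  have hu : D.u (k + 2) = ((D.r : ℝ) - 1) • ((D.S * D.T) ^ (k + 2)) + (D.r : ℝ) • (D.S * D.u k * D.S) := by
    rw [u, hb, ← D.st_pow_S k, pow_succ _ (k + 1)]
    simp only [mul_assoc, D.sqT, mul_add, mul_smul_comm, mul_one]
  have h2 : D.e * ((D.S * D.T) ^ (k + 2)) * D.e = (D.q : ℝ) • (D.e * D.u (k + 1) * D.e) := by
    have : (D.S * D.T) ^ (k + 2) = D.S * D.u (k + 1) := by
      rw [pow_succ _ (k + 1), ← mul_assoc, D.st_pow_S k, D.u_succ]
      rw [show D.S * (D.T * (D.S * D.u k)) = D.S * D.T * (D.S * D.u k) by simp only [mul_assoc]]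
      have h3 : D.u k * D.S * D.T = D.T * (D.S * D.u k) := by
        rw [← D.u_succ, u, u, pow_succ]; simp only [mul_assoc]
      rw [show D.S * D.u k * D.S * D.T = D.S * (D.u k * D.S * D.T) by simp only [mul_assoc], h3]
      simp only [mul_assoc]
    rw [this, ← mul_assoc D.e, D.e_S, smul_mul_assoc, smul_mul_assoc]
  simp only [c]
  rw [hu, mul_add, add_mul, mul_smul_comm, mul_smul_comm, smul_mul_assoc, smul_mul_assoc, h2,
    D.e_SuS_e]
  module

theorem c_end_odd (k : ℕ) (hb : (D.T * D.S) ^ (k + 2) * D.T = (D.S * D.T) ^ (k + 2) * D.S) :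
    D.c (k + 2) = ((D.q : ℝ) ^ 2) • D.c (k + 1) := by
  simp only [c]
  rw [show D.u (k + 2) = D.S * D.u (k + 1) * D.S by rw [← D.st_pow_S, u, hb], D.e_SuS_e]
  module

/-- trace values of `(x - b) V k` -/
theorem trP_b (m : ℕ) (hz : ∀ i < m, D.τ (D.c i) = 0) : ∀ k, k + 1 ≤ m →
    D.trP ((X + C ((D.q : ℝ) + D.r)) * chebV (D.q * D.r) k) = ((D.q : ℝ) + 1) * D.trP 1 := by
  have hV := D.trP_chebV m hz
  intro k hk
  match k with
  | 0 =>
    have h1 := hV 1 hk
    simp only [chebV, coeffL, mul_one] at h1 ⊢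
    rw [map_add, h1, ← mul_one (C ((D.q : ℝ) + D.r)), D.trP_C_mul]
    ring
  | j + 1 =>
    have e : (X + C ((D.q : ℝ) + D.r)) * chebV (D.q * D.r) (j + 1) = chebV (D.q * D.r) (j + 2)
        + C ((D.q : ℝ) * D.r) * chebV (D.q * D.r) j + C ((D.q : ℝ) + D.r) * chebV (D.q * D.r) (j + 1) := by
      simp only [chebV]; ring
    rw [e, map_add, map_add, D.trP_C_mul, D.trP_C_mul, hV (j + 2) hk, hV j (by omega),
      hV (j + 1) (by omega)]
    have l1 := coeffL_succ (D.r : ℝ) j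
    have l2 := coeffL_succ (D.r : ℝ) (j + 1)
    linear_combination (D.q : ℝ) * D.trP 1 * l1 + D.trP 1 * l2

/-- trace values of `(x - a)(x - b) V k` -/
theorem trP_ab (m : ℕ) (hz : ∀ i < m, D.τ (D.c i) = 0) (k : ℕ) (hk : k + 2 ≤ m) :
    D.trP ((X - C (1 + (D.q : ℝ) * D.r)) * (X + C ((D.q : ℝ) + D.r)) * chebV (D.q * D.r) k)
      = if k = 0 then -((D.q : ℝ) * D.r * (D.q + 1)) * D.trP 1 else 0 := by
  have hE := D.trP_b m hz
  match k with
  | 0 =>
    have e : (X - C (1 + (D.q : ℝ) * D.r)) * (X + C ((D.q : ℝ) + D.r)) * chebV (D.q * D.r) 0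
        = (X + C ((D.q : ℝ) + D.r)) * chebV (D.q * D.r) 1
          - C (1 + (D.q : ℝ) * D.r) * ((X + C ((D.q : ℝ) + D.r)) * chebV (D.q * D.r) 0) := by
      simp only [chebV]; ring
    rw [e, map_sub, D.trP_C_mul, hE 1 (by omega), hE 0 (by omega), if_pos rfl]
    ring
  | j + 1 =>
    have e : (X - C (1 + (D.q : ℝ) * D.r)) * (X + C ((D.q : ℝ) + D.r)) * chebV (D.q * D.r) (j + 1)
        = (X + C ((D.q : ℝ) + D.r)) * chebV (D.q * D.r) (j + 2)
          + C ((D.q : ℝ) * D.r) * ((X + C ((D.q : ℝ) + D.r)) * chebV (D.q * D.r) j)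
          - C (1 + (D.q : ℝ) * D.r) * ((X + C ((D.q : ℝ) + D.r)) * chebV (D.q * D.r) (j + 1)) := by
      simp only [chebV]; ring
    rw [e, map_sub, map_add, D.trP_C_mul, D.trP_C_mul, hE (j + 2) (by omega), hE j (by omega),
      hE (j + 1) (by omega), if_neg (by omega)]
    ring

theorem trP_ab_divV (m : ℕ) (hz : ∀ i < m, D.τ (D.c i) = 0) (l : ℝ) : ∀ k, k + 2 ≤ m →
    D.trP ((X - C (1 + (D.q : ℝ) * D.r)) * (X + C ((D.q : ℝ) + D.r)) * divV (D.q * D.r) l (k + 1))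
      = -((D.q : ℝ) * D.r * (D.q + 1)) * D.trP 1 * (chebV (D.q * D.r) k).eval l
  | 0, hk => by
    have := D.trP_ab m hz 0 hk
    simpa [divV, chebV] using this
  | 1, hk => by
    have h0 := D.trP_ab m hz 0 (by omega)
    have h1 := D.trP_ab m hz 1 hk
    have e : divV ((D.q : ℝ) * D.r) l 2 = C l * chebV (D.q * D.r) 0 + chebV (D.q * D.r) 1 := by
      simp [divV, chebV]
    rw [e, mul_add, map_add, mul_left_comm, D.trP_C_mul, h0, h1]
    simp [chebV]
    ring
  | k + 2, hk => by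
    have i1 := trP_ab_divV m hz l (k + 1) (by omega)
    have i0 := trP_ab_divV m hz l k (by omega)
    have h := D.trP_ab m hz (k + 2) hk
    rw [if_neg (by omega)] at h
    rw [divV, mul_sub, mul_add, map_sub, map_add, mul_left_comm, D.trP_C_mul, mul_left_comm _ (C _),
      D.trP_C_mul, i1, i0, h]
    simp only [chebV, eval_sub, eval_mul, eval_X, eval_C]
    ring

/-- the spectral equation in the case of a braid relation of even length `2 (k+2)` -/
theorem even_rank (k : ℕ) (hz : ∀ i < k + 2, D.τ (D.c i) = 0)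
    (hb : (D.T * D.S) ^ (k + 2) = (D.S * D.T) ^ (k + 2)) (l : ℝ)
    (hl : (chebV (D.q * D.r) (k + 1)).eval l = 0) (hl2 : l ^ 2 < 4 * ((D.q : ℝ) * D.r)) :
    ∃ R : ℕ, (R : ℝ) * (2 * (k + 2)) * ((l - (1 + D.q * D.r)) * (l + (D.q + D.r)))
      = D.card * (l ^ 2 - 4 * ((D.q : ℝ) * D.r)) := by
  set p : ℝ := (D.q : ℝ) * D.r with hp
  have hp0 : 0 < p := by
    have := D.hq; have := D.hr; positivity
  have hw : (chebV p k).eval l ≠ 0 := fun h => not_two_zero p l hp0.ne' k ⟨h, hl⟩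
  have hd := deriv_chebV p l k
  rw [hl, mul_zero, zero_sub] at hd
  set qd : ℝ[X] := (X - C (1 + p)) * (X + C ((D.q : ℝ) + D.r)) with hqd
  set F : ℝ[X] := qd * chebV p (k + 1) with hF
  have hFpol : F = polP D.q D.r (k + 2) - C (((D.r : ℝ) - 1) * D.q) * polP D.q D.r (k + 1)
      - C ((D.r : ℝ) * D.q ^ 2) * polP D.q D.r k := by
    rw [hF, hqd, hp, polP_succ, polP_succ]
    match k with
    | 0 => simp [polP, chebV]; ring
    | j + 1 => rw [polP_succ]; simp [chebV]; ring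
  have hpsi : D.psi F = 0 := by
    rw [hFpol, map_sub, map_sub, D.psi_C_mul, D.psi_C_mul, D.psi_polP, D.psi_polP, D.psi_polP,
      D.c_end_even k hb]
    module
  have hgl : (qd * divV p l (k + 1)).eval l
      = (l - (1 + p)) * (l + (D.q + D.r)) * (derivative (chebV p (k + 1))).eval l := by
    rw [eval_mul, eval_divV, hqd]; simp
  have hab : (l - (1 + p)) * (l + ((D.q : ℝ) + D.r)) ≠ 0 := by
    intro h
    rcases mul_eq_zero.1 h with h | h
    · rw [sub_eq_zero.1 h] at hl2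
      nlinarith [sq_nonneg (1 - p)]
    · rw [eq_neg_of_add_eq_zero_left h] at hl2
      nlinarith [sq_nonneg ((D.q : ℝ) - D.r)]
  have hd0 : (derivative (chebV p (k + 1))).eval l ≠ 0 := by
    intro h
    rw [h, mul_zero, eq_comm, neg_eq_zero] at hd
    simp [hp0.ne', hw] at hd
    norm_cast at hd
  obtain ⟨R, hR⟩ := D.exists_rank F (qd * divV p l (k + 1)) l hpsi
    (by rw [mul_left_comm, X_sub_mul_divV, hl, C_0, sub_zero, hF]) (by rw [hgl]; exact mul_ne_zero hab hd0)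
  refine ⟨R, ?_⟩
  rw [hgl, hqd, hp, D.trP_ab_divV (k + 2) hz l k le_rfl, ← hp] at hR
  apply mul_left_cancel₀ (mul_ne_zero hp0.ne' hw)
  linear_combination (-(l ^ 2 - 4 * p)) * hR
    + (R : ℝ) * ((l - (1 + p)) * (l + ((D.q : ℝ) + D.r))) * hd
    + (p * (chebV p k).eval l * (l ^ 2 - 4 * p)) * D.trP_one

/-- trace values of `(x - a) V k` for equal parameters -/
theorem trP_a (hqr : D.r = D.q) (m : ℕ) (hz : ∀ i < m, D.τ (D.c i) = 0) (k : ℕ) (hk : k + 2 ≤ m) :
    D.trP ((X - C (1 + (D.q : ℝ) * D.r)) * (chebV (D.q * D.r) (k + 1) + C (D.q : ℝ) * chebV (D.q * D.r) k))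
      = 0 := by
  have hV := D.trP_chebV m hz
  match k with
  | 0 =>
    have e : (X - C (1 + (D.q : ℝ) * D.r)) * (chebV (D.q * D.r) 1 + C (D.q : ℝ) * chebV (D.q * D.r) 0)
        = chebV (D.q * D.r) 2 + C ((D.q : ℝ) * D.r - (D.q : ℝ) * (1 + D.q * D.r)) * chebV (D.q * D.r) 0
          + C ((D.q : ℝ) - (1 + D.q * D.r)) * chebV (D.q * D.r) 1 := by
      simp [chebV]; ring
    rw [e, map_add, map_add, D.trP_C_mul, D.trP_C_mul, hV 2 hk, hV 0 (by omega), hV 1 (by omega), hqr]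
    simp only [coeffL]
    ring
  | j + 1 =>
    have e : (X - C (1 + (D.q : ℝ) * D.r)) *
          (chebV (D.q * D.r) (j + 2) + C (D.q : ℝ) * chebV (D.q * D.r) (j + 1))
        = chebV (D.q * D.r) (j + 3) + C ((D.q : ℝ) * D.r - (D.q : ℝ) * (1 + D.q * D.r)) * chebV (D.q * D.r) (j + 1)
          + C ((D.q : ℝ) - (1 + D.q * D.r)) * chebV (D.q * D.r) (j + 2)
          + C ((D.q : ℝ) * ((D.q : ℝ) * D.r)) * chebV (D.q * D.r) j := by
      simp [chebV]; ring
    rw [e, map_add, map_add, map_add, D.trP_C_mul, D.trP_C_mul, D.trP_C_mul, hV (j + 3) hk,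
      hV (j + 1) (by omega), hV (j + 2) (by omega), hV j (by omega), hqr]
    simp only [coeffL]
    ring

theorem trP_a_divV (hqr : D.r = D.q) (m : ℕ) (hz : ∀ i < m, D.τ (D.c i) = 0) (l : ℝ) : ∀ k, k + 1 ≤ m →
    D.trP ((X - C (1 + (D.q : ℝ) * D.r)) *
        (divV (D.q * D.r) l (k + 1) + C (D.q : ℝ) * divV (D.q * D.r) l k))
      = -((D.q : ℝ) * (D.q + 1)) * D.trP 1 * (chebV (D.q * D.r) k).eval l
  | 0, hk => by
    have h1 := D.trP_chebV m hz 1 hk
    simp only [chebV, coeffL] at h1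
    simp only [divV, mul_zero, add_zero, mul_one, map_sub, chebV, eval_one]
    rw [h1, ← mul_one (C (1 + (D.q : ℝ) * D.r)), D.trP_C_mul, hqr]
    ring
  | 1, hk => by
    have h0 := D.trP_a hqr m hz 0 hk
    have h1 := trP_a_divV hqr m hz l 0 (by omega)
    have e : divV ((D.q : ℝ) * D.r) l 2 + C (D.q : ℝ) * divV (D.q * D.r) l 1
        = C l * (divV (D.q * D.r) l 1 + C (D.q : ℝ) * divV (D.q * D.r) l 0)
          + (chebV (D.q * D.r) 1 + C (D.q : ℝ) * chebV (D.q * D.r) 0) := by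
      simp [divV, chebV]; ring
    rw [e, mul_add, map_add, mul_left_comm, D.trP_C_mul, h0, h1]
    simp [chebV]
    ring
  | k + 2, hk => by
    have h0 := D.trP_a hqr m hz (k + 1) hk
    have h1 := trP_a_divV hqr m hz l (k + 1) (by omega)
    have h2 := trP_a_divV hqr m hz l k (by omega)
    have e : divV ((D.q : ℝ) * D.r) l (k + 3) + C (D.q : ℝ) * divV (D.q * D.r) l (k + 2)
        = C l * (divV (D.q * D.r) l (k + 2) + C (D.q : ℝ) * divV (D.q * D.r) l (k + 1))
          + (chebV (D.q * D.r) (k + 2) + C (D.q : ℝ) * chebV (D.q * D.r) (k + 1))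
          - C ((D.q : ℝ) * D.r) * (divV (D.q * D.r) l (k + 1) + C (D.q : ℝ) * divV (D.q * D.r) l k) := by
      simp only [divV]; ring
    rw [e, mul_sub, mul_add, map_sub, map_add, mul_left_comm, D.trP_C_mul, mul_left_comm _ (C _),
      D.trP_C_mul, h0, h1, h2]
    simp only [chebV, eval_sub, eval_mul, eval_X, eval_C]
    ring

/-- the spectral equation in the case of a braid relation of odd length `2 (k+2) + 1` -/
theorem odd_rank (hqr : D.r = D.q) (k : ℕ) (hz : ∀ i < k + 2, D.τ (D.c i) = 0)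
    (hb : (D.T * D.S) ^ (k + 2) * D.T = (D.S * D.T) ^ (k + 2) * D.S) (l : ℝ)
    (hl : (chebV (D.q * D.r) (k + 2)).eval l + D.q * (chebV (D.q * D.r) (k + 1)).eval l = 0)
    (hl2 : l ^ 2 < 4 * ((D.q : ℝ) * D.r)) :
    ∃ R : ℕ, (R : ℝ) * (2 * k + 5) * (l - (1 + D.q * D.r)) = D.card * (l - 2 * D.q) := by
  set p : ℝ := (D.q : ℝ) * D.r with hp
  have hp2 : p = (D.q : ℝ) ^ 2 := by rw [hp, hqr, sq]
  have hq2 : (2 : ℝ) ≤ D.q := by exact_mod_cast D.hq
  have hp0 : 0 < p := by rw [hp2]; positivity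
  set w : ℝ := (chebV p (k + 1)).eval l with hwdef
  have hw : w ≠ 0 := fun h => not_two_zero p l hp0.ne' (k + 1) ⟨h, by rw [h] at hl; simpa using hl⟩
  have hrec : (chebV p (k + 2)).eval l = l * w - p * (chebV p k).eval l := by simp [chebV, hwdef]
  have d1 := deriv_chebV p l (k + 1)
  have d0 := deriv_chebV p l k
  push_cast at d1
  have hdh : (l ^ 2 - 4 * p) * ((derivative (chebV p (k + 2))).eval l + D.q * (derivative (chebV p (k + 1))).eval l)
      = -((D.q : ℝ) * (2 * k + 5) * (l + 2 * D.q) * w) := by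
    linear_combination d1 + (D.q : ℝ) * d0 - (2 * (k + 2) * (D.q : ℝ)) * hrec
      + ((k + 2) * (l + 2 * (D.q : ℝ))) * hl - (2 * (k + 3) * w) * hp2
  have hl3 : l + 2 * D.q ≠ 0 ∧ l - 2 * D.q ≠ 0 := by
    constructor <;> intro h <;> nlinarith
  have hla : l - (1 + p) ≠ 0 := by
    intro h; nlinarith [sq_nonneg (1 - p)]
  have hdne : (derivative (chebV p (k + 2))).eval l + D.q * (derivative (chebV p (k + 1))).eval l ≠ 0 := by
    intro h
    rw [h, mul_zero, eq_comm, neg_eq_zero] at hdh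
    simp [hw, hl3.1] at hdh
    rcases hdh with h | h
    · have := D.hq; omega
    · linarith [Nat.cast_nonneg (α := ℝ) k]
  set g : ℝ[X] := (X - C (1 + p)) * (divV p l (k + 2) + C (D.q : ℝ) * divV p l (k + 1)) with hg
  set F : ℝ[X] := (X - C (1 + p)) * (chebV p (k + 2) + C (D.q : ℝ) * chebV p (k + 1)) with hF
  have hFpol : F = polP D.q D.r (k + 2) - C ((D.q : ℝ) ^ 2) * polP D.q D.r (k + 1) := by
    rw [hF, hp, polP_succ, polP_succ, hqr]
    simp [chebV]; ring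
  have hpsi : D.psi F = 0 := by
    rw [hFpol, map_sub, D.psi_C_mul, D.psi_polP, D.psi_polP, D.c_end_odd k hb, sub_self]
  have hgl : g.eval l = (l - (1 + p)) *
      ((derivative (chebV p (k + 2))).eval l + D.q * (derivative (chebV p (k + 1))).eval l) := by
    simp [hg, eval_divV]
  obtain ⟨R, hR⟩ := D.exists_rank F g l hpsi
    (by
      rw [hg, mul_left_comm, mul_add, mul_left_comm _ (C _), X_sub_mul_divV, X_sub_mul_divV, hF]
      have : C ((chebV p (k + 2)).eval l) + C (D.q : ℝ) * C ((chebV p (k + 1)).eval l) = 0 := by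
        rw [← map_mul, ← map_add, hl, C_0]
      linear_combination -(X - C (1 + p)) * this)
    (by rw [hgl]; exact mul_ne_zero hla hdne)
  refine ⟨R, ?_⟩
  rw [hgl, hg, hp, D.trP_a_divV hqr (k + 2) hz l (k + 1) le_rfl, ← hp, ← hwdef] at hR
  have hmul : (D.q : ℝ) * (l + 2 * D.q) * w ≠ 0 := by
    have : (D.q : ℝ) ≠ 0 := by linarith
    exact mul_ne_zero (mul_ne_zero this hl3.1) hw
  apply mul_left_cancel₀ hmul
  linear_combination (-(l ^ 2 - 4 * p)) * hR + (R : ℝ) * (l - (1 + p)) * hdh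
    + ((D.q : ℝ) * w * (l ^ 2 - 4 * p)) * D.trP_one
    - (4 * D.card * (D.q : ℝ) * w) * hp2

end HeckeData

end CfsgLib.Lie.FeitHigman
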